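import Cfsg.Agent.ThRel.R10.Data

/-!
# The checks of the trajectories and of the seven candidates
-/

set_option autoImplicit false
set_option maxRecDepth 100000

namespace Cfsg.Agent.ThRel.R10

open Cfsg.Agent.ThWord

/-- A product of generators of the centraliser of `a` and `c`. -/
def kW (s : List Nat) : List Nat := s.flatMap fun i => genK.getD i []

/-- Its image under `x`. -/
def kX (s : List Nat) : List Nat := s.flatMap fun i => imgK.getD i []

/-- The inverse pairs among the generators. -/
noncomputable def invB : Bool := (List.range 8).all fun i =>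
  sameA (genK.getD (i + 8) [] ++ genK.getD i []) [] && sameA (imgK.getD (i + 8) [] ++ imgK.getD i []) []

theorem inv_ok : invB = true := by decide +kernel

/-- A trajectory. -/
noncomputable def trajB (r : List Nat × List Nat × List Nat × List Nat) : Bool :=
  sameA (wR ++ r.1 ++ invA wR) (kW r.2.1) && sameA (wL ++ kX r.2.1 ++ invA wL) (kW r.2.2.1) &&
    sameA (wV ++ kX r.2.2.1 ++ invA wV) (kW r.2.2.2) && sameA (invA wV ++ kX r.2.2.2 ++ wV) r.1

theorem traj_ok : trs.all trajB = true := by decide +kernel

/-- A candidate leads to a contradiction. -/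
noncomputable def killB (r : Nat × List Nat × List Nat × List Nat × List Nat × List Nat × List Nat) : Bool :=
  match r with
  | (n, k, b1, b2, a3, a4, d) =>
    sameA (wV ++ kW k ++ wV) (kW b1 ++ wV ++ kW b2) &&
      sameA (wN ++ kX k ++ (wV ++ prodA qA n ++ wM)) (kW a3 ++ wV ++ kW a4) &&
      sameA (wV ++ prodA qA n ++ wM ++ kX a3 ++ (wV ++ prodA qA n ++ wM) ++ kW d)
        (kX b1 ++ (wV ++ prodA qA n ++ wM)) &&
      diffA (kX d ++ (wN ++ kX b2)) (wN ++ kX a4 ++ wN)

/-- A candidate of the list. -/
def killAt (i : Nat) : Nat × List Nat × List Nat × List Nat × List Nat × List Nat × List Nat :=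
  kills.getD i (0, [], [], [], [], [], [])

theorem kill0 : killB (killAt 0) = true := by decide +kernel

theorem kill1 : killB (killAt 1) = true := by decide +kernel

theorem kill2 : killB (killAt 2) = true := by decide +kernel

theorem kill3 : killB (killAt 3) = true := by decide +kernel

theorem kill4 : killB (killAt 4) = true := by decide +kernel

theorem kill5 : killB (killAt 5) = true := by decide +kernel

theorem kill6 : killB (killAt 6) = true := by decide +kernel

theorem kill_ok {n : Nat} (hn : n ∈ inAll) (h0 : n ≠ 0) : ∃ i, i < 7 ∧ (killAt i).1 = n ∧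
    killB (killAt i) = true := by
  simp only [inAll, List.mem_cons, List.not_mem_nil, or_false] at hn
  rcases hn with rfl | rfl | rfl | rfl | rfl | rfl | rfl | rfl
  · exact absurd rfl h0
  exacts [⟨0, by norm_num, rfl, kill0⟩, ⟨1, by norm_num, rfl, kill1⟩, ⟨2, by norm_num, rfl, kill2⟩,
    ⟨3, by norm_num, rfl, kill3⟩, ⟨4, by norm_num, rfl, kill4⟩, ⟨5, by norm_num, rfl, kill5⟩,
    ⟨6, by norm_num, rfl, kill6⟩]

end Cfsg.Agent.ThRel.R10
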