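import Cfsg.Agent.ThRel.BeeRels

/-!
# Certificates for the relator between `x` and `u ^ d`
-/

set_option autoImplicit false

namespace Cfsg.Agent.ThRel.R10

/-- Words generating the centraliser of `a` and `c`. -/
def genK : List (List Nat) := [[0], [2], [4], [5], [6], [7], [3, 2, 3, 4, 3, 2, 3], [3, 2, 3, 7, 3, 2, 3], [0], [2], [4], [8], [9], [10], [3, 2, 3, 4, 3, 2, 3], [3, 2, 3, 10, 3, 2, 3]]

/-- Their images under `x`. -/
def imgK : List (List Nat) := [[2], [0], [4], [5], [6], [7, 4], [3, 2, 3, 10, 3, 2, 3, 7], [3, 4, 3, 2, 3, 2, 4, 3, 10], [2], [0], [4], [8], [9], [4, 10], [10, 3, 2, 3, 7, 3, 2, 3], [7, 3, 4, 2, 3, 2, 3, 4, 3]]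

/-- The word of `u ^ d`. -/
def wV : List Nat := [3, 7, 3]

/-- The third letter of the trajectory. -/
def wL : List Nat := [2, 4, 3, 10, 3]

/-- The first letter of the trajectory. -/
def wR : List Nat := [4, 10]

/-- The right part of the first factor. -/
def wM : List Nat := [7, 4]

/-- The second factor. -/
def wN : List Nat := [3, 7, 3, 4, 2]

/-- The members of the list of `Q` commuting with `t`. -/
def inT : List Nat := [0, 1, 2, 3, 4, 5, 6, 7, 176, 177, 178, 179, 180, 181, 182, 183, 256, 257, 258, 259, 260, 261, 262, 263, 432, 433, 434, 435, 436, 437, 438, 439]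

/-- Those commuting also with `c` and the two further elements. -/
def inAll : List Nat := [0, 1, 180, 181, 256, 257, 436, 437]

/-- The trajectories: the element and the three words. -/
def trs : List (List Nat × List Nat × List Nat × List Nat) := [([0], [0], [0, 2, 5, 6, 15], [1]),
  ([2], [1], [0], [0, 2, 5, 6, 7]),
  ([6], [12], [4], [12]),
  ([4, 3, 2, 3, 7, 3, 2, 3], [0, 2, 15], [0, 5, 6], [2, 7]),
  ([4, 6, 8, 10, 5, 5, 4], [11, 5, 3, 3], [0, 11, 4, 5, 11, 6, 15, 3], [11, 2, 11, 2, 15, 3, 12])]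

/-- For each candidate: the middle word, two factorisations and the transfer. -/
def kills : List (Nat × List Nat × List Nat × List Nat × List Nat × List Nat × List Nat) := [(1, [8, 13, 3, 11], [2], [0, 2], [2], [0, 13], [0, 2]),
  (180, [13, 3, 5, 13, 11], [2], [2], [2], [0, 13], [0, 5, 6, 15]),
  (181, [13, 3, 5, 13, 11], [2], [2], [2], [5], [0, 2]),
  (256, [8, 13, 3, 11], [2], [0, 2], [2], [0, 5], [5, 6, 15]),
  (257, [8, 13, 3, 11], [2], [0, 2], [2], [13], [2]),
  (436, [5, 3, 2], [3, 2], [5, 6, 11, 2], [3, 2], [5, 6, 11, 13], [3, 2, 4, 7, 11, 2]),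
  (437, [13, 3, 5, 13, 11], [2], [2], [2], [0, 5], [2])]

end Cfsg.Agent.ThRel.R10
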