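import Cfsg.Agent.ThRel.R10.Scan
import Cfsg.Agent.ThRel.R10.Checks
import Cfsg.Agent.ThRel.Endgame

/-!
# The relator `[u ^ d, (a c) ^ b] = u e (a c) ^ b u ^ d e c`

The quotient of the two sides centralises `a`, `c`, `t` and two further elements, so it is one of
eight elements of `Q`; seven of them contradict the action of `x` on products with `u ^ d`.
-/

set_option autoImplicit false
set_option maxRecDepth 100000

namespace Cfsg.Agent.ThRel.R10

open Cfsg.Agent.ThWord
open Cfsg.Agent.ThCent (toTh)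

variable {G : Type*} [Group G] (R : CData G)

theorem gW_append : ∀ l m : List Nat, gW R (l ++ m) = gW R l * gW R m
  | [], m => (one_mul _).symm
  | x :: l, m => by
    show gLet R x * gW R (l ++ m) = gLet R x * gW R l * gW R m
    rw [gW_append l m, mul_assoc]

theorem gW_invA {l : List Nat} (h : okA l = true) : gW R (invA l) = (gW R l)⁻¹ := by
  rw [← f_pcW R (okA_invA h), ← f_pcW R h, ← map_inv]
  refine (MonoidHom.eq_iff _).2 ?_
  rw [R.ker, MonoidHom.mem_ker, map_mul, inv_inv, toTh_invA h, mul_inv_cancel]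

theorem okA_of_gen {w : List Nat} (h : w ∈ genK ++ imgK) : okA w = true :=
  List.all_eq_true.1 (show ((genK ++ imgK).all okA) = true by decide) w h

variable {x : G} (hx : Swap R x)
include hx

theorem conj_gen : ∀ i : Nat, x * gW R (genK.getD i []) * x = gW R (imgK.getD i []) := by
  have hxi : x⁻¹ = x := inv_eq_of_mul_eq_one_right hx.sq
  have fx : ∀ {g : G}, Commute x g → x * g * x = g := fun {g} h => by
    rw [h.eq, mul_assoc, hx.sq, mul_one]
  have h8 : ∀ i, i < 8 → x * gW R (genK.getD i []) * x = gW R (imgK.getD i []) := by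
    intro i hi
    interval_cases i <;> simp only [genK, imgK, List.getD_cons_zero, List.getD_cons_succ, gW, gLet,
      mul_one]
    · have := hx.x_a; rwa [hxi] at this
    · have := hx.x_c; rwa [hxi] at this
    · exact fx hx.x_e
    · exact fx hx.x_s
    · exact fx hx.x_t
    · have := hx.x_u; rwa [hxi] at this
    · have := hx.x_ded; rw [hxi] at this
      simpa only [mul_assoc] using this
    · have := hx.x_dud; rw [hxi] at this
      simpa only [mul_assoc] using this
  intro i
  by_cases hi : i < 8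
  · exact h8 i hi
  by_cases hi2 : i < 16
  · obtain ⟨j, rfl⟩ : ∃ j, i = j + 8 := ⟨i - 8, by omega⟩
    have h := inv_ok
    rw [invB, List.all_eq_true] at h
    have hj := h j (List.mem_range.2 (by omega))
    rw [Bool.and_eq_true] at hj
    have e1 := rel_eq R hj.1
    have e2 := rel_eq R hj.2
    rw [gW_append, gW, ← eq_inv_iff_mul_eq_one] at e1 e2
    rw [e1, e2, ← h8 j (by omega), mul_inv_rev, mul_inv_rev, hxi, mul_assoc]
  · rw [List.getD_eq_default _ _ (by show 16 ≤ i; omega), List.getD_eq_default _ _ (by show 16 ≤ i; omega)]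
    show x * 1 * x = 1
    rw [mul_one, hx.sq]

theorem conj_seq : ∀ s : List Nat, x * gW R (kW s) * x = gW R (kX s) := by
  intro s
  induction s with
  | nil => show x * 1 * x = 1; rw [mul_one, hx.sq]
  | cons i s ih =>
    rw [show kW (i :: s) = genK.getD i [] ++ kW s from List.flatMap_cons,
      show kX (i :: s) = imgK.getD i [] ++ kX s from List.flatMap_cons, gW_append, gW_append,
      ← conj_gen R hx i, ← ih]
    calc x * (gW R (genK.getD i []) * gW R (kW s)) * x
        = x * gW R (genK.getD i []) * (x * x) * gW R (kW s) * x := by rw [hx.sq, mul_one]; group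
      _ = _ := by group

/-- The quotient of the two sides. -/
def wEl (R : CData G) (x : G) : G := (gW R wV)⁻¹ * x * gW R wV * x * gW R wL * x * gW R wR

theorem wEl_traj {r : List Nat × List Nat × List Nat × List Nat} (hr : r ∈ trs) :
    Commute (wEl R x) (gW R r.1) := by
  have h := List.all_eq_true.1 traj_ok r hr
  simp only [trajB, Bool.and_eq_true] at h
  obtain ⟨⟨⟨h1, h2⟩, h3⟩, h4⟩ := h
  have e1 := rel_eq R h1
  have e2 := rel_eq R h2
  have e3 := rel_eq R h3
  have e4 := rel_eq R h4
  rw [gW_append, gW_append, gW_invA R (by decide)] at e1 e2 e3 e4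
  refine mul_inv_eq_iff_eq_mul.1 ?_
  calc wEl R x * gW R r.1 * (wEl R x)⁻¹
      = (gW R wV)⁻¹ * (x * (gW R wV * (x * (gW R wL * (x * (gW R wR * gW R r.1 * (gW R wR)⁻¹) * x⁻¹) *
          (gW R wL)⁻¹) * x⁻¹) * (gW R wV)⁻¹) * x⁻¹) * gW R wV := by rw [wEl]; group
    _ = gW R r.1 := by
      rw [inv_eq_of_mul_eq_one_right hx.sq, e1, conj_seq R hx, e2, conj_seq R hx, e3, conj_seq R hx, e4]

theorem wEl_a : Commute (wEl R x) R.A := by
  simpa [gW, gLet] using wEl_traj R hx (r := ([0], [0], [0, 2, 5, 6, 15], [1])) (by decide)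

omit hx in
theorem cent_trivial (σ : Equiv.Perm (Fin 9)) (h : ∀ r ∈ trs, σ * (r.1.map letP).prod = (r.1.map letP).prod * σ) :
    σ = 1 := by
  have key : ∀ l : List Nat, (∀ i ∈ l, i < 5) →
      σ * ((l.map fun i => ((trs.getD i ([], [], [], [])).1.map letP).prod).prod) =
        ((l.map fun i => ((trs.getD i ([], [], [], [])).1.map letP).prod).prod) * σ := by
    intro l
    induction l with
    | nil => intro _; simp
    | cons i l ih =>
      intro hl
      have hi : trs.getD i ([], [], [], []) ∈ trs := by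
        have := hl i List.mem_cons_self
        interval_cases i <;> decide
      rw [List.map_cons, List.prod_cons, ← mul_assoc, h _ hi, mul_assoc,
        ih fun j hj => hl j (List.mem_cons_of_mem _ hj), ← mul_assoc]
  let g : List Nat → Equiv.Perm (Fin 9) := fun l =>
    (l.map fun i => ((trs.getD i ([], [], [], [])).1.map letP).prod).prod
  have ev : ∀ l : List Nat, (∀ i ∈ l, i < 5) → ∀ p, σ (g l p) = g l (σ p) := fun l hl p => by
    have := congrArg (fun τ : Equiv.Perm (Fin 9) => τ p) (key l hl)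
    exact this
  have hfix : g [2, 4] 0 = 0 ∧ g [3, 4, 3, 2] 0 = 0 ∧ g [2] 8 = 8 ∧ g [2] 0 ≠ 0 ∧
      ∀ j, g [2, 4] j = j → g [3, 4, 3, 2] j = j → j = 0 ∨ j = 8 := by decide +kernel
  obtain ⟨f1, f2, f3, f4, f5⟩ := hfix
  have h0 : σ 0 = 0 := by
    have a1 := ev [2, 4] (by decide) 0
    have a2 := ev [3, 4, 3, 2] (by decide) 0
    rw [f1] at a1
    rw [f2] at a2
    refine (f5 _ a1.symm a2.symm).resolve_right fun h8 => f4 (σ.injective ?_)
    rw [ev [2] (by decide), h8, f3]
  have himg : ∀ i : Fin 8, g (([[], [2, 3], [3], [2], [4], [3, 2], [3, 4, 3], [4, 3]] : List (List Nat)).getD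
      i.val []) 0 = i.castSucc := by decide +kernel
  have hsm : ∀ i : Fin 8, ∀ j ∈ ([[], [2, 3], [3], [2], [4], [3, 2], [3, 4, 3], [4, 3]] : List (List Nat)).getD
      i.val [], j < 5 := by decide +kernel
  have h8 : ∀ i : Fin 8, σ i.castSucc = i.castSucc := fun i => by
    rw [← himg i, ev _ (hsm i), h0]
  refine Equiv.ext fun p => ?_
  show σ p = p
  induction p using Fin.lastCases with
  | last =>
    by_contra hne
    obtain ⟨i, hi⟩ : ∃ i : Fin 8, σ (Fin.last 8) = i.castSucc :=
      ⟨(σ (Fin.last 8)).castPred hne, (Fin.castSucc_castPred _ hne).symm⟩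
    have := σ.injective (hi.trans (h8 i).symm)
    exact absurd this.symm (Fin.castSucc_ne_last i)
  | cast i => exact h8 i

theorem wEl_mem : ∃ n ∈ inAll, wEl R x = gW R (prodA qA n) := by
  obtain ⟨p, hp⟩ : wEl R x ∈ R.f.range := by
    rw [R.range]; exact Subgroup.mem_centralizer_singleton_iff.2 (wEl_a R hx).eq
  have hok : ∀ r ∈ trs, okA r.1 = true := by decide
  have hcomm : ∀ r ∈ trs, Commute (toTh p) (toTh (pcW r.1)) := fun r hr => by
    have e := (wEl_traj R hx hr).eq
    rw [← hp, ← f_pcW R (hok r hr), ← map_mul, ← map_mul, MonoidHom.eq_iff, R.ker,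
      ← MonoidHom.eq_iff, map_mul, map_mul] at e
    exact e
  have hperm : pi9 (ThLocal.toCent p) = 1 := cent_trivial _ fun r hr => by
    have e : ThLocal.toCent p * ThLocal.toCent (pcW r.1) = ThLocal.toCent (pcW r.1) * ThLocal.toCent p :=
      Subtype.ext (hcomm r hr).eq
    have e' := congrArg pi9 e
    rwa [map_mul, map_mul, pi9_word (hok r hr)] at e'
  obtain ⟨n, hn, e⟩ := exists_prodA (y := ThLocal.toCent p) (by rw [← pi9_ker, MonoidHom.mem_ker, hperm])
  have hp' : R.f p = R.f (pcW (prodA qA n)) :=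
    (MonoidHom.eq_iff _).2 (R.ker ▸ (MonoidHom.eq_iff _).1 (congrArg Subtype.val e :))
  rw [hp, f_pcW R (okA_prod n)] at hp'
  have hnd : ∀ r ∈ trs, diffA (prodA qA n ++ r.1) (r.1 ++ prodA qA n) = false := fun r hr => by
    by_contra h
    refine rel_ne R (Bool.not_eq_false _ ▸ h) ?_
    rw [gW_append, gW_append, ← hp']
    exact (wEl_traj R hx hr).eq
  exact ⟨n, mem_inAll hn (hnd ([6], [12], [4], [12]) (by decide)) hnd, hp'⟩

/-- The two sides agree. -/
theorem wEl_eq_one : wEl R x = 1 := by
  obtain ⟨n, hn, hw⟩ := wEl_mem R hx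
  by_cases h0 : n = 0
  · rw [hw, h0]; rfl
  obtain ⟨i, -, hi, hB⟩ := kill_ok hn h0
  obtain ⟨⟨n', k, b1, b2, a3, a4, d⟩, hr⟩ : ∃ r, r = killAt i := ⟨_, rfl⟩
  rw [← hr] at hi hB
  obtain rfl : n' = n := hi
  simp only [killB, Bool.and_eq_true] at hB
  obtain ⟨⟨⟨h1, h2⟩, h3⟩, h4⟩ := hB
  exfalso
  refine rel_ne R h4 ?_
  have e1 := rel_eq R h1
  have e2 := rel_eq R h2
  have e3 := rel_eq R h3
  simp only [gW_append] at e1 e2 e3 ⊢
  have hM : gW R wM = (gW R wR)⁻¹ := by rw [← gW_invA R (show okA wR = true by decide)]; rfl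
  have hN : gW R wN = (gW R wL)⁻¹ := by
    rw [← gW_invA R (show okA wL = true by decide)]
    exact rel_eq R (by decide +kernel)
  generalize hv : gW R wV = v at e1 e2 e3
  generalize gW R (prodA qA n') = f at hw e2 e3
  rw [wEl, hv] at hw
  have key : x * v * x = v * f * gW R wM * x * gW R wN := by
    rw [← hw, hM, hN]
    simp only [mul_assoc, mul_inv_cancel_left, mul_inv_cancel, mul_one]
    rw [← mul_assoc x x, hx.sq, one_mul, mul_inv_cancel, mul_one]
  have s := conj_seq R hx
  have hlhs : gW R (kX b1) * (v * f * gW R wM * x * gW R wN) * gW R (kX b2) =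
      v * f * gW R wM * gW R (kX a3) * (v * f * gW R wM) * x * gW R wN * gW R (kX a4) * gW R wN :=
    calc gW R (kX b1) * (v * f * gW R wM * x * gW R wN) * gW R (kX b2)
        = x * gW R (kW b1) * x * (x * v * x) * (x * gW R (kW b2) * x) := by rw [s, s, key]
      _ = x * (gW R (kW b1) * (x * x) * v * (x * x) * gW R (kW b2)) * x := by group
      _ = x * (v * gW R (kW k) * v) * x := by rw [hx.sq, mul_one, mul_one, e1]
      _ = x * v * (x * x) * gW R (kW k) * (x * x) * v * x := by rw [hx.sq, mul_one, mul_one]; group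
      _ = (x * v * x) * (x * gW R (kW k) * x) * (x * v * x) := by group
      _ = v * f * gW R wM * x * (gW R wN * gW R (kX k) * (v * f * gW R wM)) * x * gW R wN := by
          rw [key, s]; group
      _ = v * f * gW R wM * (x * (gW R (kW a3) * (x * x) * v * (x * x) * gW R (kW a4)) * x) * gW R wN := by
          rw [e2, hx.sq, mul_one, mul_one]; group
      _ = v * f * gW R wM * ((x * gW R (kW a3) * x) * (x * v * x) * (x * gW R (kW a4) * x)) * gW R wN := by
          group
      _ = _ := by rw [s, s, key]; group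
  have h5 : x * (gW R (kW d) * x * (gW R wN * gW R (kX b2))) = gW R wN * gW R (kX a4) * gW R wN := by
    rw [show gW R (kX b1) * (v * f * gW R wM * x * gW R wN) * gW R (kX b2) =
      gW R (kX b1) * (v * f * gW R wM) * x * gW R wN * gW R (kX b2) by group, ← e3] at hlhs
    have h6 : gW R (kW d) * x * (gW R wN * gW R (kX b2)) = x * (gW R wN * gW R (kX a4) * gW R wN) := by
      refine mul_left_cancel (a := v * f * gW R wM * gW R (kX a3) * (v * f * gW R wM)) ?_
      simp only [mul_assoc] at hlhs ⊢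
      exact hlhs
    rw [h6, ← mul_assoc, hx.sq, one_mul]
  rw [← h5, ← s d]
  group

end Cfsg.Agent.ThRel.R10

namespace Cfsg.Agent.ThRel

variable {G : Type*} [Group G] {R : CData G}

theorem BData.swap {b : G} (B : BData R b) : Swap R (R.X b) :=
  ⟨B.x_sq, B.x_a, B.x_c, B.x_e, B.x_s, B.x_t, B.x_u, B.x_ded, B.x_dud⟩

/-- **The last relator.** -/
theorem lastRel_of_bdata {b : G} (B : BData R b) : LastRel R b := by
  have h := R10.wEl_eq_one R B.swap
  have hX : (R.X b)⁻¹ = R.X b := inv_eq_of_mul_eq_one_right B.x_sq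
  have hE := inv_eq_of_mul_eq_one_right (E_sq R)
  have hC := inv_eq_of_mul_eq_one_right (C_sq R)
  simp only [R10.wEl, R10.wV, R10.wL, R10.wR, gW, gLet, mul_one] at h
  rw [LastRel, D_inv, hX]
  refine mul_inv_eq_one.1 (Eq.trans ?_ h)
  simp only [mul_inv_rev, D_inv, hX, hE, hC, mul_assoc]

end Cfsg.Agent.ThRel
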