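import Cfsg.Agent.ThRel.R10.Data

/-!
# The elements of `Q` commuting with `t`, `c` and two further elements
-/

set_option autoImplicit false
set_option maxRecDepth 100000

namespace Cfsg.Agent.ThRel.R10

open Cfsg.Agent.ThWord

/-- The image of a row under a word. -/
noncomputable def act (w : List Nat) (v : Nat) : Nat := ThMat.rowW ThMat.mask248 ThMat.mth w v

theorem act_append : ∀ (l m : List Nat) (v : Nat), act (l ++ m) v = act m (act l v)
  | [], _, _ => rfl
  | x :: l, m, v => by
    show ThMat.rowW _ _ (x :: (l ++ m)) v = ThMat.rowW _ _ m (ThMat.rowW _ _ (x :: l) v)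
    rw [ThMat.rowW_cons, ThMat.rowW_cons]
    exact act_append l m _

/-- A predicate on all products of a list of words, sharing the common beginnings. -/
noncomputable def scan (P : Nat → Nat → Nat → Bool) (L : List (List Nat)) : Nat → Nat → Nat → Nat → Bool :=
  List.rec (motive := fun _ => Nat → Nat → Nat → Nat → Bool) (fun n _ v w => P n v w)
    (fun q _ ih n b v w => ih n (2 * b) v w &&
      CosetCert.force (act q v) fun v' => CosetCert.force (act q w) fun w' => ih (n + b) (2 * b) v' w') L

theorem scan_spec (P : Nat → Nat → Nat → Bool) : ∀ (L : List (List Nat)) (n b v w : Nat),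
    scan P L n b v w = true → ∀ m < 2 ^ L.length,
      P (n + b * m) (act (prodA L m) v) (act (prodA L m) w) = true
  | [], n, b, v, w, h, m, hm => by
    obtain rfl : m = 0 := by simpa using hm
    exact h
  | q :: L, n, b, v, w, h, m, hm => by
    have h' : (scan P L n (2 * b) v w && CosetCert.force (act q v) fun v' =>
      CosetCert.force (act q w) fun w' => scan P L (n + b) (2 * b) v' w') = true := h
    rw [Bool.and_eq_true, CosetCert.force_eq, CosetCert.force_eq] at h'
    have hm2 : m / 2 < 2 ^ L.length := by
      rw [List.length_cons, pow_succ] at hm; omega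
    rw [prodA]
    rcases Nat.mod_two_eq_zero_or_one m with e | e
    · rw [if_neg (by omega), List.nil_append]
      have := scan_spec P L n (2 * b) v w h'.1 (m / 2) hm2
      rwa [show n + 2 * b * (m / 2) = n + b * m by
        rw [mul_comm 2 b, mul_assoc, show 2 * (m / 2) = m by omega]] at this
    · rw [if_pos e, act_append, act_append]
      have := scan_spec P L (n + b) (2 * b) _ _ h'.2 (m / 2) hm2
      rwa [show n + b + 2 * b * (m / 2) = n + b * m by
        rw [mul_comm 2 b, mul_assoc, add_assoc, add_comm b, ← Nat.mul_succ,
          show (2 * (m / 2)).succ = m by omega]] at this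

/-- The test of the first filter. -/
noncomputable def testT (n v w : Nat) : Bool :=
  inT.any (fun i => Nat.beq i n) || !(Nat.beq (act [6] v) w)

theorem scan_ok : scan testT qA 0 1 1 (act [6] 1) = true := by decide +kernel

theorem okA_prod (n : Nat) : okA (prodA qA n) = true := prodA_ok qA_ok n

theorem diff_of_not_mem {n : Nat} (hn : n < 512) (h : n ∉ inT) :
    diffA (prodA qA n ++ [6]) ([6] ++ prodA qA n) = true := by
  have h' := scan_spec testT qA 0 1 1 _ scan_ok n hn
  rw [zero_add, one_mul, testT, Bool.or_eq_true, List.any_eq_true] at h'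
  rcases h' with ⟨i, hi, e⟩ | h'
  · exact absurd (Nat.eq_of_beq_eq_true e ▸ hi) h
  · rw [diffA, okA_append, okA_append, okA_prod, show okA [6] = true from rfl,
      show row (prodA qA n ++ [6]) = act [6] (act (prodA qA n) 1) from act_append _ _ _,
      show row ([6] ++ prodA qA n) = act (prodA qA n) (act [6] 1) from act_append _ _ _, h']
    rfl

/-- The second filter. -/
noncomputable def second : Bool := inT.all fun n => inAll.any (fun i => Nat.beq i n) ||
  (trs.any fun r => diffA (prodA qA n ++ r.1) (r.1 ++ prodA qA n))

theorem second_ok : second = true := by decide +kernel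

theorem mem_inAll {n : Nat} (hn : n < 512)
    (h6 : diffA (prodA qA n ++ [6]) ([6] ++ prodA qA n) = false)
    (hs : ∀ r ∈ trs, diffA (prodA qA n ++ r.1) (r.1 ++ prodA qA n) = false) : n ∈ inAll := by
  have hT : n ∈ inT := by
    by_contra h
    rw [diff_of_not_mem hn h] at h6
    exact Bool.noConfusion h6
  have h := second_ok
  rw [second, List.all_eq_true] at h
  have h' := h n hT
  rw [Bool.or_eq_true, List.any_eq_true, List.any_eq_true] at h'
  rcases h' with ⟨i, hi, e⟩ | ⟨r, hr, e⟩
  · exact Nat.eq_of_beq_eq_true e ▸ hi
  · rw [hs r hr] at e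
    exact Bool.noConfusion e

end Cfsg.Agent.ThRel.R10
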